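import Cfsg.Agent.LocalEven62.Action
import Cfsg.Prelude.Def_PLocal
import Cfsg.Prelude.Def_LocalEven

/-!
Abelian subgroups of largest order of a subgroup, and `J` of it.
-/

set_option autoImplicit false

namespace Cfsg.Agent.LocalEven62

open Subgroup Cfsg

variable {G : Type*} [Group G]

/-- `A` is an abelian subgroup of `R` of largest order. -/
def MAb (R A : Subgroup G) : Prop :=
  A ≤ R ∧ IsMulCommutative A ∧
    ∀ B : Subgroup G, B ≤ R → IsMulCommutative B → Nat.card B ≤ Nat.card A

/-- `J(R)`. -/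
abbrev jA (R : Subgroup G) : Subgroup G := thompsonSubgroupAOf R

theorem mAb_map_iff {R : Subgroup G} {A : Subgroup ↥R} :
    MAb R (A.map R.subtype) ↔ A ∈ maxAbelianSubgroups ↥R := by
  constructor
  · rintro ⟨-, hc, hmax⟩
    refine ⟨⟨⟨fun a b => ?_⟩⟩, fun B hB => ?_⟩
    · have := hc.is_comm.comm (⟨_, mem_map_of_mem R.subtype a.2⟩ : ↥(A.map R.subtype))
        ⟨_, mem_map_of_mem R.subtype b.2⟩
      exact Subtype.ext (R.subtype_injective (congrArg Subtype.val this))
    · haveI := hB
      have := hmax (B.map R.subtype) (map_subtype_le _) inferInstance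
      rwa [card_map_of_injective R.subtype_injective, card_map_of_injective R.subtype_injective]
        at this
  · rintro ⟨hc, hmax⟩
    haveI := hc
    refine ⟨map_subtype_le _, inferInstance, fun B hBR hB => ?_⟩
    haveI := hB
    have := hmax (B.subgroupOf R) inferInstance
    rwa [card_map_of_injective R.subtype_injective,
      ← Nat.card_congr (subgroupOfEquivOfLe hBR).toEquiv]

theorem jA_eq_sSup (R : Subgroup G) : jA R = sSup {A | MAb R A} := by
  show (sSup (maxAbelianSubgroups ↥R)).map R.subtype = _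
  refine le_antisymm ?_ (sSup_le fun A hA => ?_)
  · rw [map_le_iff_le_comap]
    exact sSup_le fun A hA => map_le_iff_le_comap.1 (le_sSup (mAb_map_iff.2 hA))
  · have he : (A.subgroupOf R).map R.subtype = A := by
      rw [subgroupOf_map_subtype, inf_eq_left.2 hA.1]
    rw [← he] at hA ⊢
    exact map_mono (le_sSup (mAb_map_iff.1 hA))

theorem jA_le (R : Subgroup G) : jA R ≤ R := map_subtype_le _

theorem MAb.le_jA {R A : Subgroup G} (h : MAb R A) : A ≤ jA R := by
  rw [jA_eq_sSup]; exact le_sSup h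

theorem MAb.commute {R A : Subgroup G} (h : MAb R A) {a b : G} (ha : a ∈ A) (hb : b ∈ A) :
    Commute a b :=
  congrArg Subtype.val (h.2.1.is_comm.comm (⟨a, ha⟩ : ↥A) ⟨b, hb⟩)

theorem exists_mAb [Finite G] (R : Subgroup G) : ∃ A, MAb R A := by
  obtain ⟨A, ⟨hA, hc⟩, hmax⟩ := Set.exists_max_image {A : Subgroup G | A ≤ R ∧ IsMulCommutative A}
    (fun A => Nat.card A) (Set.toFinite _) ⟨⊥, bot_le, inferInstance⟩
  exact ⟨A, hA, hc, fun B h1 h2 => hmax B ⟨h1, h2⟩⟩

theorem isMulCommutative_of_commute {A : Subgroup G} (h : ∀ a ∈ A, ∀ b ∈ A, Commute a b) :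
    IsMulCommutative A :=
  ⟨⟨fun a b => Subtype.ext (h a a.2 b b.2).eq⟩⟩

theorem isMulCommutative_sup {A B : Subgroup G} (hA : ∀ a ∈ A, ∀ b ∈ A, Commute a b)
    (hB : ∀ a ∈ B, ∀ b ∈ B, Commute a b) (hAB : ∀ a ∈ A, ∀ b ∈ B, Commute a b) :
    IsMulCommutative (A ⊔ B : Subgroup G) :=
  Subgroup.le_centralizer_iff_isMulCommutative.1 (sup_le
    (Subgroup.le_centralizer_iff.1 (sup_le
      (fun a ha => mem_centralizer_iff_commute.2 fun b hb => hA a ha b hb)
      (fun b hb => mem_centralizer_iff_commute.2 fun a ha => (hAB a ha b hb).symm)))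
    (Subgroup.le_centralizer_iff.1 (sup_le
      (fun a ha => mem_centralizer_iff_commute.2 fun b hb => hAB a ha b hb)
      (fun b hb => mem_centralizer_iff_commute.2 fun a ha => hB b hb a ha))))

/-- An element of `R` commuting with `A ∈ 𝒜(R)` lies in `A`. -/
theorem MAb.mem_of_commute [Finite G] {R A : Subgroup G} (h : MAb R A) {w : G} (hw : w ∈ R)
    (hc : ∀ a ∈ A, Commute w a) : w ∈ A := by
  have hcomm : IsMulCommutative (A ⊔ zpowers w : Subgroup G) := by
    refine isMulCommutative_sup (fun a ha b hb => h.commute ha hb) ?_ ?_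
    · rintro a ⟨i, rfl⟩ b ⟨j, rfl⟩
      exact Commute.zpow_zpow (Commute.refl w) i j
    · rintro a ha b ⟨j, rfl⟩
      exact (hc a ha).symm.zpow_right j
  have hle : A ⊔ zpowers w ≤ R := sup_le h.1 (zpowers_le.2 hw)
  have he := eq_of_le_of_card_ge (le_sup_left : A ≤ A ⊔ zpowers w) (h.2.2 _ hle hcomm)
  exact he ▸ mem_sup_right (mem_zpowers w)

theorem MAb.mem_of_central [Finite G] {R A : Subgroup G} (h : MAb R A) {w : G} (hw : w ∈ R)
    (hc : ∀ r ∈ R, Commute w r) : w ∈ A :=
  h.mem_of_commute hw fun a ha => hc a (h.1 ha)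

theorem mem_jA_of_central [Finite G] {R : Subgroup G} {w : G} (hw : w ∈ R)
    (hc : ∀ r ∈ R, Commute w r) : w ∈ jA R := by
  obtain ⟨A, hA⟩ := exists_mAb R
  exact hA.le_jA (hA.mem_of_central hw hc)

theorem mAb_map {H : Type*} [Group H] {f : G →* H} (hf : Function.Injective f) {R A : Subgroup G} :
    MAb (R.map f) (A.map f) ↔ MAb R A := by
  constructor
  · rintro ⟨h1, h2, h3⟩
    refine ⟨(map_le_map_iff_of_injective hf).1 h1, isMulCommutative_of_commute fun a ha b hb => ?_,
      fun B hB hc => ?_⟩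
    · exact hf ((map_mul f a b).trans (((congrArg Subtype.val (h2.is_comm.comm
        (⟨f a, mem_map_of_mem f ha⟩ : ↥(A.map f)) ⟨f b, mem_map_of_mem f hb⟩))).trans
          (map_mul f b a).symm))
    · haveI := hc
      have := h3 (B.map f) (map_mono hB) inferInstance
      rwa [card_map_of_injective hf, card_map_of_injective hf] at this
  · rintro ⟨h1, h2, h3⟩
    haveI := h2
    refine ⟨map_mono h1, inferInstance, fun B hB hc => ?_⟩
    have he : (B.comap f).map f = B :=
      map_comap_eq_self (hB.trans (map_le_range f R))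
    have hc' : IsMulCommutative (B.comap f) := isMulCommutative_of_commute fun a ha b hb => by
      refine hf ?_
      rw [map_mul, map_mul]
      exact congrArg Subtype.val (hc.is_comm.comm (⟨f a, ha⟩ : ↥B) ⟨f b, hb⟩)
    have h4 := h3 (B.comap f) ((comap_mono hB).trans (comap_map_eq_self_of_injective hf R).le) hc'
    rw [← he, card_map_of_injective hf, card_map_of_injective hf]
    exact h4

theorem jA_map {H : Type*} [Group H] {f : G →* H} (hf : Function.Injective f) (R : Subgroup G) :
    jA (R.map f) = (jA R).map f := by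
  rw [jA_eq_sSup, jA_eq_sSup]
  refine le_antisymm (sSup_le fun A hA => ?_) ?_
  · have he : (A.comap f).map f = A := map_comap_eq_self (hA.1.trans (map_le_range f R))
    rw [← he] at hA ⊢
    exact map_mono (le_sSup ((mAb_map hf).1 hA))
  · rw [map_le_iff_le_comap]
    exact sSup_le fun A hA => map_le_iff_le_comap.1 (le_sSup ((mAb_map hf).2 hA))

theorem normalizer_le_normalizer_jA [Finite G] (R : Subgroup G) :
    Subgroup.normalizer (R : Set G) ≤ Subgroup.normalizer ((jA R : Subgroup G) : Set G) := fun g hg =>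
  mem_normalizer_of_map_le (le_of_eq (by
    rw [← jA_map (MulAut.conj g).injective, mem_normalizer_iff_map.1 hg]))

/-- If `J(R) ≤ D ≤ R` then `J(D) = J(R)`. -/
theorem jA_eq_of_le [Finite G] {R D : Subgroup G} (hDR : D ≤ R) (hJ : jA R ≤ D) : jA D = jA R := by
  have key : ∀ A, MAb D A ↔ MAb R A := by
    obtain ⟨A₀, hA₀⟩ := exists_mAb R
    refine fun A => ⟨fun h => ⟨h.1.trans hDR, h.2.1, fun B hB hc => ?_⟩,
      fun h => ⟨h.le_jA.trans hJ, h.2.1, fun B hB hc => h.2.2 B (hB.trans hDR) hc⟩⟩
    exact (hA₀.2.2 B hB hc).trans (h.2.2 A₀ (hA₀.le_jA.trans hJ) hA₀.2.1)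
  rw [jA_eq_sSup, jA_eq_sSup]
  simp only [key]

theorem involves_of_injective {H : Type*} [Group H] {X : Type*} [Group X] {G' : Type*} [Group G']
    {f : G' →* X} (hf : Function.Injective f) (h : Involves H G') : Involves H X := by
  obtain ⟨K, R, hn, ⟨e⟩⟩ := h
  haveI := hn
  let e0 := K.equivMapOfInjective f hf
  have he : (R.subgroupOf K).map e0.toMonoidHom = (R.map f).subgroupOf (K.map f) := by
    ext y
    obtain ⟨x, rfl⟩ := e0.surjective y
    simp only [mem_subgroupOf]
    constructor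
    · rintro ⟨z, hz, hze⟩
      obtain rfl := e0.injective hze
      exact ⟨_, hz, rfl⟩
    · rintro ⟨z, hz, hze⟩
      refine ⟨x, ?_, rfl⟩
      show (x : G') ∈ R
      rwa [show (x : G') = z from hf hze.symm]
  have hn' : ((R.map f).subgroupOf (K.map f)).Normal := he ▸ hn.map _ e0.surjective
  exact ⟨K.map f, R.map f, hn',
    ⟨(QuotientGroup.congr _ _ e0 he).symm.trans e⟩⟩

end Cfsg.Agent.LocalEven62
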