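import Cfsg.Agent.LocalEven62.Basic
import Cfsg.Agent.Lib.Involution.BaerSuzuki
import Cfsg.Agent.Lib.Involution.Dihedral
import Cfsg.Agent.PLocalB.Replacement
import Cfsg.Prelude.Def_LocalEven

/-!
A transvection on an abelian normal `2`-subgroup gives a section isomorphic to `S₄`.
-/

set_option autoImplicit false

namespace Cfsg.Agent.LocalEven62

open Subgroup

variable {G : Type*} [Group G]

theorem isPGroup_closure_pair [Finite G] {a b : G} (ha : a * a = 1) (hb : b * b = 1) {k : ℕ}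
    (h : (a * b) ^ 2 ^ k = 1) : IsPGroup 2 ↥(closure ({a, b} : Set G)) := by
  have hainv : a⁻¹ = a := inv_eq_of_mul_eq_one_right ha
  have hd : IsPGroup 2 ↥(zpowers (a * b)) := by
    obtain ⟨i, -, hi⟩ := (Nat.dvd_prime_pow Nat.prime_two).1 (orderOf_dvd_of_pow_eq_one h)
    exact IsPGroup.of_card (n := i) (by rw [Nat.card_zpowers, hi])
  have hA : IsPGroup 2 ↥(zpowers a) := by
    obtain ⟨i, -, hi⟩ := (Nat.dvd_prime_pow Nat.prime_two).1
      (orderOf_dvd_of_pow_eq_one (show a ^ 2 ^ 1 = 1 by rw [pow_one, pow_two, ha]))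
    exact IsPGroup.of_card (n := i) (by rw [Nat.card_zpowers, hi])
  have hn : zpowers a ≤ normalizer ((zpowers (a * b) : Subgroup G) : Set G) := by
    refine zpowers_le.2 (mem_normalizer_of_conj_mem fun y hy => ?_)
    obtain ⟨i, rfl⟩ := hy
    refine ⟨-i, ?_⟩
    have he : a * (a * b) * a⁻¹ = (a * b)⁻¹ := by
      rw [mul_inv_rev, inv_eq_of_mul_eq_one_right hb, hainv, ← mul_assoc, ha, one_mul]
    show (a * b) ^ (-i) = a * (a * b) ^ i * a⁻¹
    rw [← conj_zpow, he, zpow_neg, inv_zpow]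
  refine (hA.to_sup_of_normal_right' hd hn).to_le ((closure_le _).2 ?_)
  rintro y (rfl | rfl)
  · exact mem_sup_left (mem_zpowers y)
  · have h1 : a⁻¹ * (a * y) ∈ zpowers a ⊔ zpowers (a * y) :=
      mul_mem (mem_sup_left (inv_mem (mem_zpowers a))) (mem_sup_right (mem_zpowers _))
    rwa [inv_mul_cancel_left] at h1

theorem not_commute_iff_conj {a w : G} : a * w * a⁻¹ = w ↔ Commute a w :=
  ⟨fun h => mul_inv_eq_iff_eq_mul.1 h, fun h => by rw [h.eq, mul_inv_cancel_right]⟩

/-- Everything `S₄`: a subgroup `U` normalizing a four group `E`, meeting it trivially and inducing at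
least six automorphisms. -/
theorem involves_of_fourGroup [Finite G] {E U : Subgroup G} (hE : Nat.card E = 4)
    (hU : U ≤ normalizer (E : Set G)) (hEU : E ⊓ U = ⊥)
    (h6 : 6 ≤ (Subgroup.centralizer (E : Set G)).relIndex U) :
    Cfsg.Involves (Equiv.Perm (Fin 4)) G := by
  classical
  set L := U ⊔ E
  set U' := U.subgroupOf L
  have hcardL : Nat.card L = Nat.card U * 4 := by
    have h := PLocalB.card_sup_mul_card_inf U E hU
    rwa [inf_comm U E, hEU, card_bot, mul_one, hE] at h
  have hcardU' : Nat.card U' = Nat.card U :=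
    Nat.card_congr (subgroupOfEquivOfLe (le_sup_left : U ≤ L)).toEquiv
  have hidx : U'.index = 4 := by
    have h := U'.card_mul_index
    rw [hcardU', hcardL] at h
    exact Nat.eq_of_mul_eq_mul_left Nat.card_pos h
  set ρ := MulAction.toPermHom ↥L (↥L ⧸ U')
  set K := U'.normalCore
  have hker : ρ.ker = K := (Subgroup.normalCore_eq_ker U').symm
  have hKC : K.map L.subtype ≤ U ⊓ Subgroup.centralizer (E : Set G) := by
    rintro _ ⟨k, hk, rfl⟩
    have hkU : (k : G) ∈ U := mem_subgroupOf.1 (U'.normalCore_le hk)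
    refine ⟨hkU, mem_centralizer_iff_commute.2 fun y hy => ?_⟩
    refine commutatorElement_eq_one_iff_mul_comm.1 (Subgroup.mem_bot.1 (hEU ▸ ?_))
    refine mem_inf.2 ⟨?_, ?_⟩
    · rw [commutatorElement_def]
      exact E.mul_mem (conj_mem_of_mem_normalizer (hU hkU) hy) (E.inv_mem hy)
    · have h1 : (⟨y, mem_sup_right hy⟩ : ↥L) * k⁻¹ * ⟨y, mem_sup_right hy⟩⁻¹ ∈ U' :=
        U'.normalCore_le ((U'.normalCore_normal).conj_mem _ (inv_mem hk) _)
      have h2 : y * (k : G)⁻¹ * y⁻¹ ∈ U := mem_subgroupOf.1 h1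
      have h3 := U.mul_mem hkU h2
      rw [commutatorElement_def]
      simpa [mul_assoc] using h3
  have hK6 : Nat.card K * 6 ≤ Nat.card U := by
    have h1 : Nat.card K ≤ Nat.card (U ⊓ Subgroup.centralizer (E : Set G) : Subgroup G) := by
      rw [← card_map_of_injective (f := L.subtype) L.subtype_injective]
      exact Nat.le_of_dvd Nat.card_pos (card_dvd_of_le hKC)
    have h3 := ((Subgroup.centralizer (E : Set G)).subgroupOf U).card_mul_index
    have h4 : Nat.card ↥((Subgroup.centralizer (E : Set G)).subgroupOf U) =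
        Nat.card (U ⊓ Subgroup.centralizer (E : Set G) : Subgroup G) := by
      rw [← card_map_of_injective U.subtype_injective, subgroupOf_map_subtype, inf_comm]
    rw [h4] at h3
    exact (Nat.mul_le_mul h1 h6).trans h3.le
  letI : Fintype (↥L ⧸ U') := Fintype.ofFinite _
  have hperm : Nat.card (Equiv.Perm (↥L ⧸ U')) = 24 := by
    rw [Nat.card_eq_fintype_card, Fintype.card_perm, ← Nat.card_eq_fintype_card,
      ← Subgroup.index_eq_card, hidx]
    rfl
  have hsurj : Function.Surjective ρ := by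
    rw [← MonoidHom.range_eq_top]
    refine Subgroup.eq_top_of_le_card _ ?_
    rw [hperm]
    have h5 : Nat.card ρ.range * Nat.card K = Nat.card L := by
      rw [← hker, ← Nat.card_congr (QuotientGroup.quotientKerEquivRange ρ).toEquiv,
        ← Subgroup.index_eq_card, mul_comm, Subgroup.card_mul_index]
    by_contra hlt
    push_neg at hlt
    have h6' : Nat.card ρ.range * Nat.card K < 24 * Nat.card K :=
      (Nat.mul_lt_mul_right Nat.card_pos).2 hlt
    rw [h5, hcardL] at h6'
    omega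
  have he : (K.map L.subtype).subgroupOf L = K := comap_map_eq_self_of_injective L.subtype_injective K
  have hn : ((K.map L.subtype).subgroupOf L).Normal := he.symm ▸ U'.normalCore_normal
  refine ⟨L, K.map L.subtype, hn, ⟨?_⟩⟩
  refine (QuotientGroup.quotientMulEquivOfEq (he.trans hker.symm)).trans
    ((QuotientGroup.quotientKerEquivOfSurjective ρ hsurj).trans ?_)
  have hc4 : Nat.card (↥L ⧸ U') = 4 := by rw [← Subgroup.index_eq_card, hidx]
  exact Equiv.permCongrHom (Finite.equivFinOfCardEq hc4)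

/-- A transvection `a` on an abelian normal `2`-group `W`, with `O₂(G / C(W)) = 1`: `G` involves `S₄`. -/
theorem involves_of_transvection [Finite G] (W : Subgroup G) [W.Normal] (hW : IsPGroup 2 W)
    (hWc : IsMulCommutative W)
    (hred : ∀ N : Subgroup (G ⧸ Subgroup.centralizer (W : Set G)), N.Normal → IsPGroup 2 N → N = ⊥)
    {a : G} (haC : a ∉ Subgroup.centralizer (W : Set G))
    (hidx : ∀ u ∈ W, ∀ v ∈ W, ¬ Commute a u → ¬ Commute a v → Commute a (u * v)) :
    Cfsg.Involves (Equiv.Perm (Fin 4)) G := by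
  classical
  haveI : Fact (Nat.Prime 2) := ⟨Nat.prime_two⟩
  haveI : Fact (Nat.Prime 3) := ⟨Nat.prime_three⟩
  have hcomm : ∀ u ∈ W, ∀ v ∈ W, u * v = v * u := fun u hu v hv =>
    congrArg Subtype.val (hWc.is_comm.comm (⟨u, hu⟩ : ↥W) ⟨v, hv⟩)
  have hcj : ∀ (g : G), ∀ u ∈ W, g * u * g⁻¹ ∈ W :=
    fun g u hu => (inferInstance : W.Normal).conj_mem u hu g
  obtain ⟨w₀, hw₀, hw₀a⟩ : ∃ w ∈ W, ¬ Commute a w := by
    by_contra hno
    simp only [not_exists, not_and, not_not] at hno
    exact haC (mem_centralizer_iff_commute.2 fun w hw => hno w hw)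
  set e := a * w₀ * a⁻¹ * w₀⁻¹ with he
  have heW : e ∈ W := mul_mem (hcj a w₀ hw₀) (inv_mem hw₀)
  have hTa : ∀ w ∈ W, a * w * a⁻¹ = w ∨ a * w * a⁻¹ = e * w := by
    intro w hw
    by_cases hc : Commute a w
    · exact Or.inl (not_commute_iff_conj.2 hc)
    · right
      have h1 : Commute a (w * w₀⁻¹) := hidx w hw w₀⁻¹ (inv_mem hw₀) hc
        (fun h => hw₀a (by simpa using h.inv_right))
      calc a * w * a⁻¹ = a * (w * w₀⁻¹) * a⁻¹ * (a * w₀ * a⁻¹) := by group
        _ = (w * w₀⁻¹) * (e * w₀) := by rw [not_commute_iff_conj.2 h1, he, inv_mul_cancel_right]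
        _ = w * w₀⁻¹ * (w₀ * e) := by rw [hcomm e heW w₀ hw₀]
        _ = w * e := by group
        _ = e * w := hcomm w hw e heW
  have he1 : e ≠ 1 := fun h => hw₀a (not_commute_iff_conj.1 (mul_inv_eq_one.1 h))
  have hae : a * e * a⁻¹ = e := by
    rcases hTa e heW with h | h
    · exact h
    · exfalso
      obtain ⟨n, hn⟩ := IsPGroup.iff_orderOf.1 hW ⟨e, heW⟩
      rw [Subgroup.orderOf_mk] at hn
      have h2 : orderOf (e * e) = orderOf e := by
        rw [← h]; exact MulEquiv.orderOf_eq (MulAut.conj a) e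
      rw [← pow_two, orderOf_pow, hn] at h2
      rcases n with _ | n
      · exact he1 (orderOf_eq_one_iff.1 (by rw [hn, pow_zero]))
      · rw [Nat.gcd_eq_right (dvd_pow_self 2 n.succ_ne_zero), pow_succ,
          Nat.mul_div_cancel _ two_pos] at h2
        have h3 : 0 < 2 ^ n := pow_pos two_pos n
        omega
  have hee : e * e = 1 := by
    have h1 := not_commute_iff_conj.2 (hidx w₀ hw₀ w₀ hw₀ hw₀a hw₀a)
    have h2 : a * (w₀ * w₀) * a⁻¹ = (e * e) * (w₀ * w₀) := by
      calc a * (w₀ * w₀) * a⁻¹ = (e * w₀) * (e * w₀) := by rw [he]; group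
        _ = e * (w₀ * e) * w₀ := by group
        _ = e * (e * w₀) * w₀ := by rw [hcomm w₀ hw₀ e heW]
        _ = _ := by group
    exact mul_eq_right.1 (h2.symm.trans h1)
  have haa : ∀ w ∈ W, (a * a) * w * (a * a)⁻¹ = w := by
    intro w hw
    have h0 : (a * a) * w * (a * a)⁻¹ = a * (a * w * a⁻¹) * a⁻¹ := by group
    rw [h0]
    rcases hTa w hw with h | h
    · rw [h, h]
    · rw [h, show a * (e * w) * a⁻¹ = (a * e * a⁻¹) * (a * w * a⁻¹) by group, hae, h,
        ← mul_assoc, hee, one_mul]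
  -- Baer-Suzuki
  set C := Subgroup.centralizer (W : Set G)
  haveI : C.Normal := inferInstance
  set π := QuotientGroup.mk' C
  obtain ⟨g, hg⟩ : ∃ g : G, ¬ IsPGroup 2 ↥(closure ({π a, π (g * a * g⁻¹)} : Set (G ⧸ C))) := by
    by_contra hno
    simp only [not_exists, not_not] at hno
    obtain ⟨N, hN, hNp, hNa⟩ := Involution.baerSuzuki (p := 2) (π a) fun q => by
      obtain ⟨g, rfl⟩ := QuotientGroup.mk'_surjective C q
      have := hno g
      rwa [map_mul, map_mul, map_inv] at this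
    rw [hred N hN hNp, Subgroup.mem_bot] at hNa
    exact haC ((QuotientGroup.eq_one_iff a).1 hNa)
  set b := g * a * g⁻¹ with hb
  set f := g * e * g⁻¹ with hf
  have hfW : f ∈ W := hcj g e heW
  have hcon : ∀ y w, (g * y * g⁻¹) * w * (g * y * g⁻¹)⁻¹ = g * (y * (g⁻¹ * w * g) * y⁻¹) * g⁻¹ :=
    fun y w => by group
  have hgW : ∀ w ∈ W, g⁻¹ * w * g ∈ W := fun w hw => by simpa using hcj g⁻¹ w hw
  have hTb : ∀ w ∈ W, b * w * b⁻¹ = w ∨ b * w * b⁻¹ = f * w := by
    intro w hw
    rw [hb, hcon]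
    rcases hTa _ (hgW w hw) with h | h
    · left; rw [h]; group
    · right; rw [h, hf]; group
  have hbf : b * f * b⁻¹ = f := by
    rw [hb, hcon, show g⁻¹ * f * g = e by rw [hf]; group, hae]
  have hbb : ∀ w ∈ W, (b * b) * w * (b * b)⁻¹ = w := by
    intro w hw
    rw [hb, show g * a * g⁻¹ * (g * a * g⁻¹) = g * (a * a) * g⁻¹ by group, hcon, haa _ (hgW w hw)]
    group
  have hff : f * f = 1 := by
    rw [hf, show g * e * g⁻¹ * (g * e * g⁻¹) = g * (e * e) * g⁻¹ by group, hee]; group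
  have hπ : ∀ y : G, (∀ w ∈ W, y * w * y⁻¹ = w) → π y = 1 := fun y hy =>
    (QuotientGroup.eq_one_iff y).2
      (mem_centralizer_iff_commute.2 fun w hw => not_commute_iff_conj.1 (hy w hw))
  -- the four group
  set E := zpowers e ⊔ zpowers f
  have hEW : E ≤ W := sup_le (zpowers_le.2 heW) (zpowers_le.2 hfW)
  have hEe : e ∈ E := mem_sup_left (mem_zpowers e)
  have hEf : f ∈ E := mem_sup_right (mem_zpowers f)
  have hnE : ∀ y : G, y * e * y⁻¹ ∈ E → y * f * y⁻¹ ∈ E → y ∈ normalizer (E : Set G) := by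
    intro y h1 h2
    refine mem_normalizer_of_map_le ?_
    rw [map_le_iff_le_comap]
    exact sup_le (zpowers_le.2 h1) (zpowers_le.2 h2)
  have haE : a ∈ normalizer (E : Set G) := hnE a (by rw [hae]; exact hEe) (by
    rcases hTa f hfW with h | h <;> rw [h]
    · exact hEf
    · exact E.mul_mem hEe hEf)
  have hbE : b ∈ normalizer (E : Set G) := hnE b (by
    rcases hTb e heW with h | h <;> rw [h]
    · exact hEe
    · exact E.mul_mem hEf hEe) (by rw [hbf]; exact hEf)
  -- elements of `E`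
  have hEmem : ∀ y ∈ E, y = 1 ∨ y = e ∨ y = f ∨ y = e * f := by
    have hz : ∀ {u : G}, u * u = 1 → ∀ y ∈ zpowers u, y = 1 ∨ y = u := by
      rintro u hu y ⟨i, rfl⟩
      have h2 : u ^ (2 : ℤ) = 1 := by rw [zpow_two]; exact hu
      rcases Int.even_or_odd i with ⟨j, rfl⟩ | ⟨j, rfl⟩
      · left; show u ^ (j + j) = 1; rw [← two_mul, zpow_mul, h2, one_zpow]
      · right; show u ^ (2 * j + 1) = u; rw [zpow_add, zpow_mul, h2, one_zpow, zpow_one, one_mul]
    intro y hy
    rw [← SetLike.mem_coe, coe_mul_of_left_le_normalizer_right (zpowers e) (zpowers f)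
      (zpowers_le.2 (mem_normalizer_of_conj_mem fun z hz' => by
        rw [hcomm e heW z ((zpowers_le.2 hfW) hz'), mul_inv_cancel_right]; exact hz'))] at hy
    obtain ⟨u, hu, v, hv, rfl⟩ := hy
    rcases hz hee u hu with rfl | rfl <;> rcases hz hff v hv with rfl | rfl <;> simp
  have haf : ¬ Commute a f ∧ ¬ Commute b e := by
    by_contra hor
    rw [not_and_or, not_not, not_not] at hor
    set d := a * b
    have hd2 : ∀ y ∈ E, (d * d) * y * (d * d)⁻¹ = y := by
      suffices h : E ≤ Subgroup.centralizer ({d * d} : Set G) from fun y hy =>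
        not_commute_iff_conj.2 (Subgroup.mem_centralizer_singleton_iff.1 (h hy)).symm
      have hd : ∀ y, (d * d) * y * (d * d)⁻¹ = a * (b * (a * (b * y * b⁻¹) * a⁻¹) * b⁻¹) * a⁻¹ :=
        fun y => by simp only [d]; group
      refine sup_le (zpowers_le.2 ?_) (zpowers_le.2 ?_) <;>
        refine Subgroup.mem_centralizer_singleton_iff.2 (not_commute_iff_conj.1 ?_).eq.symm <;>
        rw [hd]
      · rcases hor with h | h
        · have hf' := not_commute_iff_conj.2 h
          rcases hTb e heW with h1 | h1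
          · rw [h1, hae, h1, hae]
          · rw [h1, show a * (f * e) * a⁻¹ = (a * f * a⁻¹) * (a * e * a⁻¹) by group, hf', hae,
              show b * (f * e) * b⁻¹ = (b * f * b⁻¹) * (b * e * b⁻¹) by group, hbf, h1,
              ← mul_assoc f f e, hff, one_mul, hae]
        · have he' := not_commute_iff_conj.2 h
          rw [he', hae, he', hae]
      · rcases hor with h | h
        · have hf' := not_commute_iff_conj.2 h
          rw [hbf, hf', hbf, hf']
        · have he' := not_commute_iff_conj.2 h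
          rcases hTa f hfW with h1 | h1
          · rw [hbf, h1, hbf, h1]
          · rw [hbf, h1, show b * (e * f) * b⁻¹ = (b * e * b⁻¹) * (b * f * b⁻¹) by group, he', hbf,
              show a * (e * f) * a⁻¹ = (a * e * a⁻¹) * (a * f * a⁻¹) by group, hae, h1,
              ← mul_assoc e e f, hee, one_mul]
    have hd1 : ∀ w ∈ W, ∃ η ∈ E, d * w * d⁻¹ = η * w := by
      intro w hw
      have h0 : d * w * d⁻¹ = a * (b * w * b⁻¹) * a⁻¹ := by simp only [d]; group
      rw [h0]
      rcases hTb w hw with h | h <;> rw [h]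
      · rcases hTa w hw with h' | h'
        · exact ⟨1, one_mem _, by rw [h', one_mul]⟩
        · exact ⟨e, hEe, h'⟩
      · rw [show a * (f * w) * a⁻¹ = (a * f * a⁻¹) * (a * w * a⁻¹) by group]
        rcases hTa w hw with h' | h' <;> rw [h']
        · exact ⟨_, conj_mem_of_mem_normalizer haE hEf, rfl⟩
        · exact ⟨_, E.mul_mem (conj_mem_of_mem_normalizer haE hEf) hEe, (mul_assoc _ _ _).symm⟩
    have hd4 : ∀ w ∈ W, (d * d * (d * d)) * w * (d * d * (d * d))⁻¹ = w := by
      intro w hw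
      obtain ⟨η, hη, h⟩ := hd1 w hw
      set η' := d * η * d⁻¹ * η
      have hη' : η' ∈ E :=
        E.mul_mem (conj_mem_of_mem_normalizer (mul_mem haE hbE) hη) hη
      have h2 : (d * d) * w * (d * d)⁻¹ = η' * w := by
        calc (d * d) * w * (d * d)⁻¹ = d * (d * w * d⁻¹) * d⁻¹ := by group
          _ = (d * η * d⁻¹) * (d * w * d⁻¹) := by
            conv_lhs => rw [h]
            group
          _ = _ := by rw [h, ← mul_assoc]
      have hsq : η' * η' = 1 := by
        rcases hEmem η' hη' with h | h | h | h <;> rw [h]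
        · exact one_mul 1
        · exact hee
        · exact hff
        · rw [mul_assoc, ← mul_assoc f e f, hcomm f hfW e heW, mul_assoc e f f, hff, mul_one, hee]
      calc (d * d * (d * d)) * w * (d * d * (d * d))⁻¹
          = (d * d) * ((d * d) * w * (d * d)⁻¹) * (d * d)⁻¹ := by group
        _ = ((d * d) * η' * (d * d)⁻¹) * ((d * d) * w * (d * d)⁻¹) := by
          conv_lhs => rw [h2]
          group
        _ = η' * (η' * w) := by rw [h2, hd2 η' hη']
        _ = w := by rw [← mul_assoc, hsq, one_mul]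
    refine hg (isPGroup_closure_pair (k := 2) ?_ ?_ ?_)
    · rw [← map_mul]; exact hπ _ haa
    · rw [← map_mul]; exact hπ _ hbb
    · rw [← map_mul, show (2 : ℕ) ^ 2 = 4 from rfl, pow_succ, pow_succ, pow_succ, pow_one,
        ← map_mul, ← map_mul, ← map_mul, mul_assoc]
      exact hπ _ hd4
  obtain ⟨haf, hbe⟩ := haf
  have haf' : a * f * a⁻¹ = e * f := (hTa f hfW).resolve_left fun h => haf (not_commute_iff_conj.1 h)
  have hbe' : b * e * b⁻¹ = f * e := (hTb e heW).resolve_left fun h => hbe (not_commute_iff_conj.1 h)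
  have hfe : f ≠ e := fun h => haf (by rw [h]; exact not_commute_iff_conj.1 hae)
  have hf1 : f ≠ 1 := fun h => haf (h ▸ Commute.one_right a)
  have hcardE : Nat.card E = 4 := by
    have hu : ∀ {u : G}, u * u = 1 → u ≠ 1 → Nat.card (zpowers u) = 2 := fun {u} h h1 => by
      rw [Nat.card_zpowers]; exact orderOf_eq_prime (by rw [pow_two]; exact h) h1
    have h := PLocalB.card_sup_mul_card_inf (zpowers e) (zpowers f)
      (zpowers_le.2 (mem_normalizer_of_conj_mem fun z hz' => by
        rw [hcomm e heW z ((zpowers_le.2 hfW) hz'), mul_inv_cancel_right]; exact hz'))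
    have hbot : zpowers e ⊓ zpowers f = ⊥ := by
      rw [eq_bot_iff]
      intro y ⟨hy1, hy2⟩
      obtain ⟨i, rfl⟩ := hy1
      rcases Int.even_or_odd i with ⟨j, rfl⟩ | ⟨j, rfl⟩
      · show e ^ (j + j) ∈ (⊥ : Subgroup G)
        rw [← two_mul, zpow_mul, zpow_two, hee, one_zpow]; exact one_mem _
      · exfalso
        change e ^ (2 * j + 1) ∈ zpowers f at hy2
        rw [zpow_add, zpow_mul, zpow_two, hee, one_zpow, zpow_one, one_mul] at hy2
        obtain ⟨k, hk⟩ := hy2
        rcases Int.even_or_odd k with ⟨l, rfl⟩ | ⟨l, rfl⟩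
        · refine he1 (hk.symm.trans ?_)
          show f ^ (l + l) = 1
          rw [← two_mul, zpow_mul, zpow_two, hff, one_zpow]
        · refine hfe (Eq.trans ?_ hk)
          show f = f ^ (2 * l + 1)
          rw [zpow_add, zpow_mul, zpow_two, hff, one_zpow, zpow_one, one_mul]
    rw [hbot, card_bot, mul_one, hu hee he1, hu hff hf1] at h
    exact h
  set CE := Subgroup.centralizer (E : Set G)
  have hCE : ∀ {y : G}, y * e * y⁻¹ = e → y * f * y⁻¹ = f → y ∈ CE := fun {y} h1 h2 =>
    mem_centralizer_iff_commute.2 fun z hz => by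
      rcases hEmem z hz with rfl | rfl | rfl | rfl
      · exact Commute.one_right y
      · exact not_commute_iff_conj.1 h1
      · exact not_commute_iff_conj.1 h2
      · exact (not_commute_iff_conj.1 h1).mul_right (not_commute_iff_conj.1 h2)
  have hCEfix : ∀ {y : G}, y ∈ CE → ∀ z ∈ E, y * z * y⁻¹ = z := fun {y} hy z hz =>
    not_commute_iff_conj.2 (mem_centralizer_iff_commute.1 hy z hz)
  set d := a * b
  have hde : d * e * d⁻¹ = f := by
    rw [show d * e * d⁻¹ = a * (b * e * b⁻¹) * a⁻¹ by simp only [d]; group, hbe',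
      show a * (f * e) * a⁻¹ = (a * f * a⁻¹) * (a * e * a⁻¹) by group, haf', hae,
      hcomm e heW f hfW, mul_assoc, hee, mul_one]
  have hdf : d * f * d⁻¹ = e * f := by
    rw [show d * f * d⁻¹ = a * (b * f * b⁻¹) * a⁻¹ by simp only [d]; group, hbf, haf']
  have hdef : d * (e * f) * d⁻¹ = e := by
    rw [show d * (e * f) * d⁻¹ = (d * e * d⁻¹) * (d * f * d⁻¹) by group, hde, hdf,
      ← mul_assoc, hcomm f hfW e heW, mul_assoc, hff, mul_one]
  have hdE : d ∈ normalizer (E : Set G) := mul_mem haE hbE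
  have hNCE : normalizer (E : Set G) ≤ normalizer (CE : Set G) :=
    normalizer_le_normalizer_centralizer E
  have hd3 : d ^ 3 ∈ CE := by
    have h3 : ∀ y, d ^ 3 * y * (d ^ 3)⁻¹ = d * (d * (d * y * d⁻¹) * d⁻¹) * d⁻¹ := fun y => by rw [pow_three]; group
    exact hCE (by rw [h3, hde, hdf, hdef]) (by rw [h3, hdf, hdef, hde])
  set M := CE ⊔ zpowers d
  have hMN : M ≤ normalizer (E : Set G) :=
    sup_le (centralizer_le_normalizer (E : Set G)) (zpowers_le.2 hdE)
  have hfix : ∀ m ∈ M, ∀ z ∈ E, z ≠ 1 → m * z * m⁻¹ = z → m ∈ CE := by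
    intro m hm z hz hz1 hfixz
    rw [← SetLike.mem_coe, coe_mul_of_right_le_normalizer_left CE (zpowers d)
      (zpowers_le.2 (hNCE hdE))] at hm
    obtain ⟨c, hc, _, ⟨k, rfl⟩, rfl⟩ := hm
    set i : ℤ := k % 3
    have hk : d ^ k = d ^ i * (d ^ 3) ^ (k / 3) := by
      rw [← zpow_natCast d 3, ← zpow_mul, ← zpow_add]
      congr 1
      simp only [i]
      omega
    show c * d ^ k ∈ CE
    rw [hk]
    refine CE.mul_mem hc (CE.mul_mem ?_ (CE.zpow_mem hd3 _))
    have hz' : d ^ i * z * (d ^ i)⁻¹ = z := by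
      have h1 : (c * d ^ k) * z * (c * d ^ k)⁻¹ = c * (d ^ k * z * (d ^ k)⁻¹) * c⁻¹ := by group
      have hd3z := hCEfix (CE.zpow_mem hd3 (k / 3)) z hz
      have hdk : d ^ k ∈ normalizer (E : Set G) := zpow_mem hdE k
      change (c * d ^ k) * z * (c * d ^ k)⁻¹ = z at hfixz
      rw [h1, hCEfix hc _ (conj_mem_of_mem_normalizer hdk hz), hk,
        show d ^ i * (d ^ 3) ^ (k / 3) * z * (d ^ i * (d ^ 3) ^ (k / 3))⁻¹ =
          d ^ i * ((d ^ 3) ^ (k / 3) * z * ((d ^ 3) ^ (k / 3))⁻¹) * (d ^ i)⁻¹ by group, hd3z] at hfixz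
      exact hfixz
    have hi : i = 0 ∨ i = 1 ∨ i = 2 := by simp only [i]; omega
    rcases hi with h | h | h
    · rw [h, zpow_zero]; exact one_mem _
    · exfalso
      rw [h, zpow_one] at hz'
      rcases hEmem z hz with rfl | rfl | rfl | rfl
      · exact hz1 rfl
      · exact hfe (hde.symm.trans hz')
      · exact he1 (mul_eq_right.1 (hdf.symm.trans hz'))
      · exact hf1 (mul_eq_left.1 (hdef.symm.trans hz').symm)
    · exfalso
      rw [h, show d ^ (2 : ℤ) * z * (d ^ (2 : ℤ))⁻¹ = d * (d * z * d⁻¹) * d⁻¹ by rw [zpow_two]; group] at hz'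
      rcases hEmem z hz with rfl | rfl | rfl | rfl
      · exact hz1 rfl
      · rw [hde, hdf] at hz'; exact hf1 (mul_eq_left.1 hz')
      · rw [hdf, hdef] at hz'; exact hfe hz'.symm
      · rw [hdef, hde] at hz'; exact he1 (mul_eq_right.1 hz'.symm)
  have haM : a ∉ M := fun h => haf (not_commute_iff_conj.1
    (hCEfix (hfix a h e hEe he1 hae) f hEf))
  have haMn : a ∈ normalizer (M : Set G) := by
    refine mem_normalizer_of_map_le ?_
    rw [map_le_iff_le_comap]
    refine sup_le (fun y hy => mem_sup_left (conj_mem_of_mem_normalizer (hNCE haE) hy))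
      (zpowers_le.2 ?_)
    show a * d * a⁻¹ ∈ M
    have h : a * a * (b * b) ∈ CE :=
      CE.mul_mem (hCE (haa e heW) (haa f hfW)) (hCE (hbb e heW) (hbb f hfW))
    have h1 : a * d * a⁻¹ = a * a * (b * b) * d⁻¹ := by simp only [d]; group
    rw [h1]
    exact M.mul_mem (mem_sup_left h) (inv_mem (mem_sup_right (mem_zpowers d)))
  obtain ⟨P⟩ := (inferInstance : Nonempty (Sylow 3 ↥M))
  have hD := IsSyl.of_sylow_sub P
  set D := (P : Subgroup ↥M).map M.subtype
  obtain ⟨z, hzD, hzC⟩ : ∃ z ∈ D, z ∉ CE := by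
    by_contra hno
    simp only [not_exists, not_and, not_not] at hno
    set m := orderOf d / 3 ^ (orderOf d).factorization 3 with hm
    have hm3 : ¬ 3 ∣ m := Nat.not_dvd_ordCompl Nat.prime_three (orderOf_pos d).ne'
    have hpow : (d ^ m) ^ 3 ^ (orderOf d).factorization 3 = 1 := by
      rw [← pow_mul, hm, mul_comm, Nat.ordProj_mul_ordCompl_eq_self, pow_orderOf_eq_one]
    have hp3 : IsPGroup 3 ↥(zpowers (d ^ m)) := by
      obtain ⟨i, -, hi⟩ := (Nat.dvd_prime_pow Nat.prime_three).1 (orderOf_dvd_of_pow_eq_one hpow)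
      exact IsPGroup.of_card (n := i) (by rw [Nat.card_zpowers, hi])
    obtain ⟨k, hkM, hk⟩ := hD.exists_conj_le hp3
      (zpowers_le.2 (pow_mem (mem_sup_right (mem_zpowers d)) m))
    have h1 := hno _ (hk (conj_mem_map (g := k) (mem_zpowers (d ^ m))))
    have h2 : d ^ m ∈ CE := by
      have := conj_mem_of_mem_normalizer (inv_mem (hNCE (hMN hkM))) h1
      simpa [mul_assoc] using this
    have hb' := Nat.gcd_eq_gcd_ab 3 m
    rw [(Nat.prime_three.coprime_iff_not_dvd.2 hm3 : Nat.gcd 3 m = 1)] at hb'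
    have hdC : d ∈ CE := by
      rw [← zpow_one d, ← Nat.cast_one, hb', zpow_add, zpow_mul, zpow_mul, zpow_natCast,
        zpow_natCast]
      exact CE.mul_mem (CE.zpow_mem hd3 _) (CE.zpow_mem h2 _)
    exact hfe (hde.symm.trans (hCEfix hdC e hEe))
  obtain ⟨k, hkM, hk⟩ := hD.exists_conj_eq (hD.map_conj haMn)
  rw [map_conj_mul] at hk
  set U := normalizer (E : Set G) ⊓ normalizer (D : Set G)
  have hDU : D ≤ U := le_inf (hD.le.trans hMN) Subgroup.le_normalizer
  have huU : k * a ∈ U := ⟨mul_mem (hMN hkM) haE, mem_normalizer_iff_map.2 hk⟩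
  have huM : k * a ∉ M := fun h => haM (by simpa using M.mul_mem (M.inv_mem hkM) h)
  have hED : E ⊓ D = ⊥ := by
    obtain ⟨n, hn⟩ := IsPGroup.iff_card.1 hD.isPGroup
    refine eq_bot_of_card_eq _ (Nat.eq_one_of_dvd_coprimes ?_ (card_dvd_of_le inf_le_left)
      (card_dvd_of_le inf_le_right))
    rw [hcardE, hn]
    exact Nat.Coprime.pow_right n (by norm_num)
  have hEU : E ⊓ U = ⊥ := by
    rw [eq_bot_iff]
    intro y hy
    by_contra hy1
    refine hzC (hfix z (hD.le hzD) y hy.1 (fun h => hy1 (by rw [h]; exact one_mem _)) ?_)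
    have h1 : y * z * y⁻¹ * z⁻¹ ∈ E ⊓ D :=
      ⟨by simpa [mul_assoc] using E.mul_mem hy.1 (conj_mem_of_mem_normalizer (hMN (hD.le hzD))
        (E.inv_mem hy.1)), D.mul_mem (conj_mem_of_mem_normalizer hy.2.2 hzD) (D.inv_mem hzD)⟩
    rw [hED, Subgroup.mem_bot, mul_inv_eq_one] at h1
    exact not_commute_iff_conj.2 (not_commute_iff_conj.1 h1).symm
  refine involves_of_fourGroup hcardE inf_le_left hEU ?_
  -- index at least six
  set V := U ⊓ M
  have hzV : z ∈ V := ⟨hDU hzD, hD.le hzD⟩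
  have h1 : (U ⊓ CE).relIndex V * V.relIndex U = (U ⊓ CE).relIndex U :=
    relIndex_mul_relIndex _ _ _ (inf_le_inf_left _ le_sup_left) inf_le_left
  show 6 ≤ CE.relIndex U
  rw [← inf_relIndex_left U CE, ← h1]
  show 3 * 2 ≤ _
  refine Nat.mul_le_mul ?_ ?_
  · have h0 : (U ⊓ CE).relIndex V ≠ 0 := index_ne_zero_of_finite
    have h1' : (U ⊓ CE).relIndex V ≠ 1 := fun h => hzC ((relIndex_eq_one.1 h) hzV).2
    have h2' : (U ⊓ CE).relIndex V ≠ 2 := by
      intro h
      have h4 : ((U ⊓ CE).subgroupOf V).index = 2 := h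
      have h5 : z * z ∈ CE := (mem_subgroupOf.1 (mul_self_mem_of_index_two h4 ⟨z, hzV⟩)).2
      obtain ⟨n, hn⟩ := hD.isPGroup ⟨z, hzD⟩
      have hn' : z ^ 3 ^ n = 1 := congrArg Subtype.val hn
      have hb' := Nat.gcd_eq_gcd_ab 2 (3 ^ n)
      rw [(Nat.Coprime.pow_right n (by norm_num) : Nat.gcd 2 (3 ^ n) = 1)] at hb'
      refine hzC ?_
      rw [← zpow_one z, ← Nat.cast_one, hb', zpow_add, zpow_mul, zpow_mul, zpow_natCast,
        zpow_natCast, hn', one_zpow, mul_one, pow_two]
      exact CE.zpow_mem h5 _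
    omega
  · have h0 : V.relIndex U ≠ 0 := index_ne_zero_of_finite
    have h1' : V.relIndex U ≠ 1 := fun h => huM ((relIndex_eq_one.1 h) huU).2
    omega

end Cfsg.Agent.LocalEven62
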