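import Cfsg.Agent.LocalEven62.ConjGen
import Cfsg.Agent.LocalEven62.MinimalOver

/-!
An induction principle for weak closure of an element centralized by a Sylow subgroup.
-/

set_option autoImplicit false

namespace Cfsg.Agent.LocalEven62

open Subgroup

variable {G : Type*} [Group G] {p : ℕ}

theorem IsSyl.conj [Finite G] [Fact p.Prime] {S K : Subgroup G} (hS : IsSyl p S K) (g : G) :
    IsSyl p (S.map (MulAut.conj g).toMonoidHom) (K.map (MulAut.conj g).toMonoidHom) := by
  refine ⟨map_mono hS.le, hS.isPGroup.map _, ?_⟩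
  rw [relIndex_map_map_of_injective S K (f := (MulAut.conj g).toMonoidHom) (MulAut.conj g).injective]
  exact hS.not_dvd

theorem normalizer_map_conj [Finite G] (U : Subgroup G) (g : G) :
    (normalizer (U : Set G)).map (MulAut.conj g).toMonoidHom =
      normalizer ((U.map (MulAut.conj g).toMonoidHom : Subgroup G) : Set G) := by
  refine le_antisymm ?_ fun n hn => ?_
  · rintro _ ⟨n, hn, rfl⟩
    exact mem_normalizer_map_conj hn
  · rw [mem_map_conj]
    have h := mem_normalizer_map_conj (a := g⁻¹) hn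
    rwa [map_conj_inv_cancel, inv_inv] at h

/-- For every `U` there is a conjugate with fully normalized position. -/
theorem exists_fullyNormalized [Finite G] [Fact p.Prime] (S : Sylow p G) {U : Subgroup G}
    (hU : U ≤ (S : Subgroup G)) :
    ∃ g : G,
      ((S : Subgroup G) ⊓ normalizer (U : Set G)).map (MulAut.conj g).toMonoidHom ≤ (S : Subgroup G) ∧
      U.map (MulAut.conj g).toMonoidHom ≤ (S : Subgroup G) ∧
      IsSyl p ((S : Subgroup G) ⊓ normalizer ((U.map (MulAut.conj g).toMonoidHom : Subgroup G) : Set G))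
        (normalizer ((U.map (MulAut.conj g).toMonoidHom : Subgroup G) : Set G)) ∧
      Nat.card ((S : Subgroup G) ⊓ normalizer (U : Set G) : Subgroup G) ≤
        Nat.card ((S : Subgroup G) ⊓
          normalizer ((U.map (MulAut.conj g).toMonoidHom : Subgroup G) : Set G) : Subgroup G) := by
  set R := (S : Subgroup G) ⊓ normalizer (U : Set G)
  obtain ⟨P, hP⟩ := ((S.isPGroup'.to_le (inf_le_left : R ≤ _)).of_equiv
    (subgroupOfEquivOfLe (inf_le_right : R ≤ normalizer (U : Set G))).symm).exists_le_sylow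
  have hPs := IsSyl.of_sylow_sub P
  set P' := (P : Subgroup ↥(normalizer (U : Set G))).map (normalizer (U : Set G)).subtype
  have hRP : R ≤ P' := fun r hr => ⟨⟨r, hr.2⟩, hP hr, rfl⟩
  obtain ⟨g, -, hg⟩ := (IsSyl.of_sylow S).exists_conj_le hPs.isPGroup le_top
  have hUg : U.map (MulAut.conj g).toMonoidHom ≤ (S : Subgroup G) :=
    (map_mono ((le_inf hU le_normalizer).trans hRP)).trans hg
  have hRg : R.map (MulAut.conj g).toMonoidHom ≤ (S : Subgroup G) ⊓
      normalizer ((U.map (MulAut.conj g).toMonoidHom : Subgroup G) : Set G) :=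
    le_inf ((map_mono hRP).trans hg) ((map_mono inf_le_right).trans (normalizer_map_conj U g).le)
  have h1 : IsSyl p (P'.map (MulAut.conj g).toMonoidHom)
      (normalizer ((U.map (MulAut.conj g).toMonoidHom : Subgroup G) : Set G)) := by
    rw [← normalizer_map_conj]; exact hPs.conj g
  have he := h1.eq_of_le (S.isPGroup'.to_le inf_le_left) inf_le_right
    (le_inf hg h1.le)
  refine ⟨g, (map_mono hRP).trans hg, hUg, he ▸ h1, ?_⟩
  rw [← card_map_conj R g]
  exact Nat.le_of_dvd Nat.card_pos (card_dvd_of_le hRg)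

theorem lt_inf_normalizer [Finite G] [Fact p.Prime] (S : Sylow p G) {U : Subgroup G}
    (hU : U ≤ (S : Subgroup G)) (hne : U ≠ (S : Subgroup G)) :
    Nat.card U < Nat.card ((S : Subgroup G) ⊓ normalizer (U : Set G) : Subgroup G) := by
  have hle : U ≤ (S : Subgroup G) ⊓ normalizer (U : Set G) := le_inf hU le_normalizer
  by_contra h
  exact hne (eq_of_inf_normalizer_le S.isPGroup' hU
    (Subgroup.eq_of_le_of_card_ge hle (not_lt.1 h)).ge)

theorem isSyl_inf_normalizer_self [Finite G] [Fact p.Prime] (S : Sylow p G) :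
    IsSyl p ((S : Subgroup G) ⊓ normalizer ((S : Subgroup G) : Set G))
      (normalizer ((S : Subgroup G) : Set G)) := by
  rw [inf_eq_left.2 le_normalizer]
  exact IsSyl.sylow_of_le S le_normalizer

/-- If the normalizers of the fully normalized subgroups of order at least `k` fix `x`, then so does every
map between subgroups of `S` of order at least `k`. -/
theorem fix_of_good [Finite G] [Fact p.Prime] (S : Sylow p G) {x : G} (hx : x ∈ (S : Subgroup G))
    (hxc : ∀ s ∈ (S : Subgroup G), Commute x s) {k : ℕ}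
    (hgood : ∀ T : Subgroup G, x ∈ T → T ≤ (S : Subgroup G) →
      IsSyl p ((S : Subgroup G) ⊓ normalizer (T : Set G)) (normalizer (T : Set G)) →
      k ≤ Nat.card T → ∀ g ∈ normalizer (T : Set G), g * x * g⁻¹ = x) :
    ∀ U : Subgroup G, x ∈ U → U ≤ (S : Subgroup G) → k ≤ Nat.card U →
      ∀ g : G, U.map (MulAut.conj g).toMonoidHom ≤ (S : Subgroup G) → g * x * g⁻¹ = x := by
  intro U
  induction hm : Nat.card (S : Subgroup G) - Nat.card U using Nat.strong_induction_on
    generalizing U with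
  | _ m ih =>
  subst hm
  intro hxU hUS hk n hn
  by_cases hUeq : U = (S : Subgroup G)
  · subst hUeq
    exact hgood _ hxU le_rfl (isSyl_inf_normalizer_self S) hk n (mem_normalizer_of_map_le hn)
  have big : ∀ V : Subgroup G, x ∈ V → V ≤ (S : Subgroup G) → Nat.card U < Nat.card V →
      ∀ g : G, V.map (MulAut.conj g).toMonoidHom ≤ (S : Subgroup G) → g * x * g⁻¹ = x := by
    intro V hxV hVS hlt
    have := Nat.le_of_dvd Nat.card_pos (card_dvd_of_le hVS)
    exact ih _ (by omega) V rfl hxV hVS (hk.trans hlt.le)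
  have hxN : ∀ V : Subgroup G, V ≤ (S : Subgroup G) →
      x ∈ (S : Subgroup G) ⊓ normalizer (V : Set G) := fun V hV => ⟨hx, mem_normalizer_of_conj_mem fun v hv => by
    rw [(hxc v (hV hv)).eq, mul_inv_cancel_right]; exact hv⟩
  set U₁ := U.map (MulAut.conj n).toMonoidHom
  have hne₁ : U₁ ≠ (S : Subgroup G) := fun h => hUeq (Subgroup.eq_of_le_of_card_ge hUS
    (by rw [← card_map_conj U n]; exact (congrArg (fun V : Subgroup G => Nat.card V) h).ge))
  obtain ⟨g, hg, hUg, hFN, hcg⟩ := exists_fullyNormalized S hUS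
  obtain ⟨g₁, hg₁, hUg₁, hFN₁, hcg₁⟩ := exists_fullyNormalized S (U := U₁) hn
  have hlt := lt_inf_normalizer S hUS hUeq
  have hlt₁ := lt_inf_normalizer S hn hne₁
  rw [card_map_conj] at hlt₁
  have e1 := big _ (hxN U hUS) inf_le_left hlt g hg
  have e2 := big _ (hxN U₁ hn) inf_le_left hlt₁ g₁ hg₁
  set U₂ := U.map (MulAut.conj g).toMonoidHom
  set U₃ := U₁.map (MulAut.conj g₁).toMonoidHom with hU₃
  have hxU₂ : x ∈ U₂ := by rw [← e1]; exact conj_mem_map hxU
  set h := g₁ * n * g⁻¹ with hh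
  have hmap : U₂.map (MulAut.conj h).toMonoidHom = U₃ := by
    rw [hU₃, map_conj_mul, map_conj_mul, hh, inv_mul_cancel_right]
  have hR₂ : IsSyl p (((S : Subgroup G) ⊓ normalizer (U₂ : Set G)).map (MulAut.conj h).toMonoidHom)
      (normalizer (U₃ : Set G)) := by
    have h' := hFN.conj h
    rwa [normalizer_map_conj U₂ h, hmap] at h'
  obtain ⟨c, hc, hce⟩ := hFN₁.exists_conj_eq hR₂
  rw [map_conj_mul] at hce
  have e3 := big _ (hxN U₂ hUg) inf_le_left (hlt.trans_le hcg) (c * h)
    (hce.le.trans inf_le_left)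
  have hxU₃ : x ∈ U₃ := by
    rw [← e3]
    have h1 : h * x * h⁻¹ ∈ U₃ := hmap ▸ conj_mem_map hxU₂
    simpa [mul_assoc] using conj_mem_of_mem_normalizer hc h1
  have hk₃ : k ≤ Nat.card U₃ := by rw [hU₃, card_map_conj, card_map_conj]; exact hk
  have e4 := hgood U₃ hxU₃ hUg₁ hFN₁ hk₃ c hc
  have e5 : h * x * h⁻¹ = x :=
    calc h * x * h⁻¹ = c⁻¹ * (c * h * x * (c * h)⁻¹) * c := by group
      _ = c⁻¹ * (c * x * c⁻¹) * c := by rw [e3, e4]
      _ = x := by group
  have e6 : g⁻¹ * x * g = x := by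
    conv_lhs => rw [← e1]
    group
  calc n * x * n⁻¹ = g₁⁻¹ * (h * (g * x * g⁻¹) * h⁻¹) * g₁ := by rw [hh]; group
    _ = g₁⁻¹ * x * g₁ := by rw [e1, e5]
    _ = g₁⁻¹ * (g₁ * x * g₁⁻¹) * g₁ := by rw [e2]
    _ = x := by group

/-- Weak closure from a local property. -/
theorem weaklyClosed_of_local [Finite G] [Fact p.Prime] (S : Sylow p G) {x : G}
    (hx : x ∈ (S : Subgroup G))
    (hN : ∀ g ∈ normalizer ((S : Subgroup G) : Set G), g * x * g⁻¹ = x)
    (hloc : ∀ T : Subgroup G, x ∈ T → T ≤ (S : Subgroup G) →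
      (S : Subgroup G) ⊓ Subgroup.centralizer (T : Set G) ≤ T →
      IsSyl p ((S : Subgroup G) ⊓ normalizer (T : Set G)) (normalizer (T : Set G)) →
      (∀ U : Subgroup G, x ∈ U → U ≤ (S : Subgroup G) →
        Nat.card ((S : Subgroup G) ⊓ normalizer (T : Set G) : Subgroup G) <
          Nat.card ((S : Subgroup G) ⊓ normalizer (U : Set G) : Subgroup G) →
        ∀ g ∈ normalizer (U : Set G), g * x * g⁻¹ = x) →
      ∀ g ∈ normalizer (T : Set G), g * x * g⁻¹ = x) :
    ∀ g : G, g * x * g⁻¹ ∈ (S : Subgroup G) → g * x * g⁻¹ = x := by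
  have hxc : ∀ s ∈ (S : Subgroup G), Commute x s := fun s hs => by
    have h := hN s (le_normalizer hs)
    exact (mul_inv_eq_iff_eq_mul.1 h).symm
  set bad : Set (Subgroup G) := {T | x ∈ T ∧ T ≤ (S : Subgroup G) ∧
    IsSyl p ((S : Subgroup G) ⊓ normalizer (T : Set G)) (normalizer (T : Set G)) ∧
    ¬ ∀ g ∈ normalizer (T : Set G), g * x * g⁻¹ = x}
  suffices hb : bad = ∅ by
    intro g hg
    refine fix_of_good S hx hxc (k := 0) (fun T h1 h2 h3 _ => ?_) (zpowers x) (mem_zpowers x)
      (zpowers_le.2 hx) (Nat.zero_le _) g ?_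
    · by_contra hno
      exact (Set.eq_empty_iff_forall_notMem.1 hb T) ⟨h1, h2, h3, hno⟩
    · rintro _ ⟨_, ⟨i, rfl⟩, rfl⟩
      show g * x ^ i * g⁻¹ ∈ _
      rw [← conj_zpow]
      exact zpow_mem hg i
  by_contra hne
  obtain ⟨T, ⟨hxT, hTS, hFN, hbad⟩, hmax⟩ := Set.Finite.exists_maximalFor
    (fun T : Subgroup G => toLex (Nat.card ((S : Subgroup G) ⊓ normalizer (T : Set G) : Subgroup G),
      Nat.card T)) bad (Set.toFinite _) (Set.nonempty_iff_ne_empty.2 hne)
  set R := (S : Subgroup G) ⊓ normalizer (T : Set G)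
  have good : ∀ T' : Subgroup G, x ∈ T' → T' ≤ (S : Subgroup G) →
      IsSyl p ((S : Subgroup G) ⊓ normalizer (T' : Set G)) (normalizer (T' : Set G)) →
      (Nat.card R < Nat.card ((S : Subgroup G) ⊓ normalizer (T' : Set G) : Subgroup G) ∨
        (Nat.card R ≤ Nat.card ((S : Subgroup G) ⊓ normalizer (T' : Set G) : Subgroup G) ∧
          Nat.card T < Nat.card T')) →
      ∀ g ∈ normalizer (T' : Set G), g * x * g⁻¹ = x := by
    intro T' h1 h2 h3 hlt
    by_contra hno
    have hlt' : Nat.card R < Nat.card ((S : Subgroup G) ⊓ normalizer (T' : Set G) : Subgroup G) ∨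
        (Nat.card R = Nat.card ((S : Subgroup G) ⊓ normalizer (T' : Set G) : Subgroup G) ∧
          Nat.card T < Nat.card T') := by
      rcases hlt with h | ⟨h, h'⟩
      · exact Or.inl h
      · rcases h.lt_or_eq with h'' | h''
        · exact Or.inl h''
        · exact Or.inr ⟨h'', h'⟩
    have := hmax (j := T') ⟨h1, h2, h3, hno⟩ (Prod.Lex.toLex_le_toLex.2
      (hlt'.imp id fun h => ⟨h.1, h.2.le⟩))
    rcases Prod.Lex.toLex_le_toLex.1 this with h | h <;> rcases hlt' with h' | h' <;> simp only [R] at * <;> omega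
  have hP : ∀ U : Subgroup G, x ∈ U → U ≤ (S : Subgroup G) → Nat.card R ≤ Nat.card U →
      ∀ g : G, U.map (MulAut.conj g).toMonoidHom ≤ (S : Subgroup G) → g * x * g⁻¹ = x := by
    refine fix_of_good S hx hxc fun T' h1 h2 h3 hk => ?_
    by_cases hT' : T' = (S : Subgroup G)
    · subst hT'; exact hN
    · exact good T' h1 h2 h3 (Or.inl (hk.trans_lt (lt_inf_normalizer S h2 hT')))
  have hgen : ∀ U : Subgroup G, x ∈ U → U ≤ (S : Subgroup G) →
      (Nat.card R < Nat.card ((S : Subgroup G) ⊓ normalizer (U : Set G) : Subgroup G) ∨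
        (Nat.card R ≤ Nat.card ((S : Subgroup G) ⊓ normalizer (U : Set G) : Subgroup G) ∧
          Nat.card T < Nat.card U)) →
      ∀ g ∈ normalizer (U : Set G), g * x * g⁻¹ = x := by
    intro U h1 h2 hlt n hn
    obtain ⟨g, hg, hUg, hFNg, hcg⟩ := exists_fullyNormalized S h2
    have hk : Nat.card R ≤ Nat.card ((S : Subgroup G) ⊓ normalizer (U : Set G) : Subgroup G) :=
      hlt.elim le_of_lt And.left
    have e := hP ((S : Subgroup G) ⊓ normalizer (U : Set G)) (mem_inf.2 ⟨hx, le_normalizer h1⟩) inf_le_left hk g hg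
    have e' := good _ (by rw [← e]; exact conj_mem_map h1) hUg hFNg
      (hlt.imp (fun h => h.trans_le hcg) fun h => ⟨h.1.trans hcg, by rw [card_map_conj]; exact h.2⟩)
      (g * n * g⁻¹) (mem_normalizer_map_conj hn)
    calc n * x * n⁻¹ = g⁻¹ * ((g * n * g⁻¹) * (g * x * g⁻¹) * (g * n * g⁻¹)⁻¹) * g := by group
      _ = g⁻¹ * x * g := by rw [e, e']
      _ = g⁻¹ * (g * x * g⁻¹) * g := by rw [e]
      _ = x := by group
  refine hbad ?_
  by_cases hcent : (S : Subgroup G) ⊓ Subgroup.centralizer (T : Set G) ≤ T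
  · exact hloc T hxT hTS hcent hFN fun U h1 h2 h3 => hgen U h1 h2 (Or.inl h3)
  -- otherwise pass to `T · C_S(T)`
  intro n hn
  set C := Subgroup.centralizer (T : Set G)
  set D := (S : Subgroup G) ⊓ C
  have hCN : C ≤ normalizer (T : Set G) := centralizer_le_normalizer (T : Set G)
  have hNC : normalizer (T : Set G) ≤ normalizer (C : Set G) :=
    normalizer_le_normalizer_centralizer T
  have hDsyl : IsSyl p D C := by
    have h := hFN.inf_normal hCN hNC
    rwa [show R ⊓ C = D from le_antisymm (inf_le_inf_right _ inf_le_left)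
      (le_inf (le_inf inf_le_left (inf_le_right.trans hCN)) inf_le_right)] at h
  set T' := T ⊔ D
  have hT'S : T' ≤ (S : Subgroup G) := sup_le hTS inf_le_left
  have hlt : Nat.card T < Nat.card T' := by
    by_contra h
    exact hcent (le_sup_right.trans (Subgroup.eq_of_le_of_card_ge le_sup_left (not_lt.1 h)).ge)
  have hRn : R ≤ normalizer (T' : Set G) := le_normalizer_sup inf_le_right
    (le_normalizer_inf (inf_le_left.trans Subgroup.le_normalizer) (inf_le_right.trans hNC))
  have hgT' := hgen T' (mem_sup_left hxT) hT'S (Or.inr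
    ⟨Nat.le_of_dvd Nat.card_pos (card_dvd_of_le (le_inf inf_le_left hRn)), hlt⟩)
  obtain ⟨a, ha, b, hb, rfl⟩ : ∃ a ∈ C, ∃ b ∈ normalizer (T : Set G) ⊓ normalizer (D : Set G),
      n = a * b := by
    obtain ⟨k, hk, hke⟩ := hDsyl.exists_conj_eq (hDsyl.map_conj (hNC hn))
    rw [map_conj_mul] at hke
    refine ⟨k⁻¹, C.inv_mem hk, k * n, ⟨mul_mem (hCN hk) hn, ?_⟩, by group⟩
    exact mem_normalizer_iff_map.2 hke
  have e1 := hgT' b (le_normalizer_sup (L := normalizer (T : Set G) ⊓ normalizer (D : Set G))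
    inf_le_left inf_le_right hb)
  calc a * b * x * (a * b)⁻¹ = a * (b * x * b⁻¹) * a⁻¹ := by group
    _ = a * x * a⁻¹ := by rw [e1]
    _ = x := by rw [(mem_centralizer_iff_commute.1 ha x hxT).eq, mul_inv_cancel_right]

end Cfsg.Agent.LocalEven62
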