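import Mathlib.GroupTheory.Index
import Mathlib.GroupTheory.QuotientGroup.Basic
import Mathlib.Algebra.BigOperators.Group.Finset.Basic
import Mathlib.Algebra.BigOperators.Intervals
import Mathlib.GroupTheory.GroupAction.Quotient
import Mathlib.GroupTheory.PGroup

/-!
Norm maps for a group acting on an abelian group.
-/

set_option autoImplicit false

namespace Cfsg.Agent.LocalEven62

open Subgroup MulAction

universe u

variable {G : Type u} {A : Type*} [Group G] [CommGroup A]

/-- `w` is fixed by `H`. -/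
def IsFix (φ : G →* MulAut A) (H : Subgroup G) (w : A) : Prop := ∀ h ∈ H, φ h w = w

/-- The subgroup of elements fixed by the whole group. -/
def fixSub (φ : G →* MulAut A) : Subgroup A where
  carrier := {w | ∀ g, φ g w = w}
  one_mem' := fun g => map_one (φ g)
  mul_mem' := fun {a b} ha hb g => by rw [map_mul, ha g, hb g]
  inv_mem' := fun {a} ha g => by rw [map_inv, ha g]

variable [Finite G]

/-- The norm of `w` from `H` to `M`. -/
noncomputable def trNorm (φ : G →* MulAut A) (H M : Subgroup G) (w : A) : A :=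
  letI : Fintype (↥M ⧸ H.subgroupOf M) := Fintype.ofFinite _
  ∏ q : ↥M ⧸ H.subgroupOf M, φ (q.out : G) w

theorem IsFix.rep {φ : G →* MulAut A} {H : Subgroup G} {w : A} (h : IsFix φ H w) {M : Subgroup G}
    {a b : ↥M} (hab : (a : ↥M ⧸ H.subgroupOf M) = b) : φ (a : G) w = φ (b : G) w := by
  have h1 : (a : G)⁻¹ * b ∈ H := by
    have h0 := mem_subgroupOf.1 (QuotientGroup.eq.1 hab)
    simpa using h0
  have h2 := h _ h1
  rw [map_mul, MulAut.mul_apply] at h2
  conv_lhs => rw [← h2, ← MulAut.mul_apply, ← map_mul, mul_inv_cancel, map_one, MulAut.one_apply]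

theorem trNorm_eq_prod (φ : G →* MulAut A) {H M : Subgroup G} {w : A} (hw : IsFix φ H w)
    {ι : Type*} [Fintype ι] (r : ι → ↥M)
    (hr : Function.Bijective fun i => (r i : ↥M ⧸ H.subgroupOf M)) :
    trNorm φ H M w = ∏ i, φ (r i : G) w := by
  letI : Fintype (↥M ⧸ H.subgroupOf M) := Fintype.ofFinite _
  rw [trNorm, ← (Equiv.ofBijective _ hr).prod_comp]
  refine Finset.prod_congr rfl fun i _ => hw.rep ?_
  exact QuotientGroup.out_eq' _

theorem trNorm_isFix (φ : G →* MulAut A) {H M : Subgroup G} {w : A} (hw : IsFix φ H w) :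
    IsFix φ M (trNorm φ H M w) := by
  intro m hm
  letI : Fintype (↥M ⧸ H.subgroupOf M) := Fintype.ofFinite _
  conv_rhs => rw [trNorm, ← Equiv.prod_comp (MulAction.toPerm (⟨m, hm⟩ : ↥M))]
  rw [trNorm, map_prod]
  refine Finset.prod_congr rfl fun q _ => ?_
  rw [← MulAut.mul_apply, ← map_mul]
  refine hw.rep (a := (⟨m, hm⟩ : ↥M) * q.out) ?_
  conv_rhs => rw [QuotientGroup.out_eq']
  show _ = (⟨m, hm⟩ : ↥M) • q
  conv_rhs => rw [← QuotientGroup.out_eq' q]
  rfl

theorem trNorm_trans (φ : G →* MulAut A) {H M N : Subgroup G} (hHM : H ≤ M) (hMN : M ≤ N) {w : A}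
    (hw : IsFix φ H w) : trNorm φ H N w = trNorm φ M N (trNorm φ H M w) := by
  letI : Fintype (↥M ⧸ H.subgroupOf M) := Fintype.ofFinite _
  letI : Fintype (↥N ⧸ M.subgroupOf N) := Fintype.ofFinite _
  let r : (↥N ⧸ M.subgroupOf N) × (↥M ⧸ H.subgroupOf M) → ↥N :=
    fun cq => cq.1.out * ⟨(cq.2.out : G), hMN cq.2.out.2⟩
  have hr : Function.Bijective fun i => (r i : ↥N ⧸ H.subgroupOf N) := by
    constructor
    · rintro ⟨c, q⟩ ⟨c', q'⟩ h
      have h1 : ((c.out : G) * (q.out : G))⁻¹ * ((c'.out : G) * (q'.out : G)) ∈ H :=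
        (mem_subgroupOf.1 (QuotientGroup.eq.1 h) :)
      have hc : c = c' := by
        rw [← QuotientGroup.out_eq' c, ← QuotientGroup.out_eq' c']
        refine QuotientGroup.eq.2 ?_
        show (c.out : G)⁻¹ * (c'.out : G) ∈ M
        have h2 := M.mul_mem (M.mul_mem q.out.2 (hHM h1)) (M.inv_mem q'.out.2)
        simpa [mul_assoc] using h2
      subst hc
      refine Prod.ext rfl ?_
      show q = q'
      rw [← QuotientGroup.out_eq' q, ← QuotientGroup.out_eq' q']
      refine QuotientGroup.eq.2 ?_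
      show (q.out : G)⁻¹ * (q'.out : G) ∈ H
      simpa [mul_assoc] using h1
    · intro x
      obtain ⟨n, rfl⟩ := QuotientGroup.mk_surjective x
      set c : ↥N ⧸ M.subgroupOf N := (n : ↥N ⧸ M.subgroupOf N)
      have hm : (c.out : G)⁻¹ * (n : G) ∈ M :=
        (mem_subgroupOf.1 (QuotientGroup.eq.1 (QuotientGroup.out_eq' c)) :)
      set q : ↥M ⧸ H.subgroupOf M := ((⟨_, hm⟩ : ↥M) : ↥M ⧸ H.subgroupOf M)
      refine ⟨(c, q), QuotientGroup.eq.2 ?_⟩
      show ((c.out : G) * (q.out : G))⁻¹ * (n : G) ∈ H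
      have h3 : (q.out : G)⁻¹ * ((c.out : G)⁻¹ * (n : G)) ∈ H :=
        (mem_subgroupOf.1 (QuotientGroup.eq.1 (QuotientGroup.out_eq' q)) :)
      simpa [mul_assoc] using h3
  rw [trNorm_eq_prod φ hw r hr, Fintype.prod_prod_type, trNorm, trNorm]
  refine Finset.prod_congr rfl fun c _ => ?_
  rw [map_prod]
  refine Finset.prod_congr rfl fun q _ => ?_
  rw [← MulAut.mul_apply, ← map_mul]
  rfl

theorem trNorm_mem_fixSub (φ : G →* MulAut A) {H M : Subgroup G} {w : A} (hw : w ∈ fixSub φ) :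
    trNorm φ H M w ∈ fixSub φ :=
  Subgroup.prod_mem _ fun q _ => by rw [hw (q.out : G)]; exact hw

theorem trNorm_pow (φ : G →* MulAut A) (H M : Subgroup G) (w : A) (n : ℕ) :
    trNorm φ H M (w ^ n) = trNorm φ H M w ^ n := by
  simp only [trNorm, map_pow, Finset.prod_pow]

/-- A step of index `p`. -/
theorem trNorm_step (φ : G →* MulAut A) {p : ℕ} [hp : Fact p.Prime] {H M : Subgroup G} {w : A}
    (hw : IsFix φ H w) (hHM : H ≤ M) {a : G} (ha : a ∈ M) (haH : a ∉ H) (hap : a ^ p ∈ H)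
    (hn : a ∈ normalizer (H : Set G)) (hgen : M ≤ H ⊔ zpowers a)
    (hq : φ a (φ a w / w) = φ a w / w) :
    trNorm φ H M w = w ^ p * (φ a w / w) ^ (p * (p - 1) / 2) ∧ (φ a w / w) ^ p = 1 := by
  set δ := φ a w / w with hδ
  have hi : ∀ i : ℕ, φ (a ^ i) w = w * δ ^ i := by
    intro i
    induction i with
    | zero => simp
    | succ i ih =>
      rw [pow_succ', map_mul, MulAut.mul_apply, ih, map_mul, map_pow, hq, pow_succ' δ,
        ← mul_assoc w δ, show w * δ = φ a w from by rw [hδ, mul_div_cancel]]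
  have hp1 : δ ^ p = 1 := by
    have h := hw _ hap
    rwa [hi, mul_eq_left] at h
  refine ⟨?_, hp1⟩
  have hnat : ∀ n : ℕ, a ^ n ∈ H → p ∣ n := by
    intro n hn'
    by_contra hd
    have hb := Nat.gcd_eq_gcd_ab p n
    rw [(hp.out.coprime_iff_not_dvd.2 hd : Nat.gcd p n = 1)] at hb
    refine haH ?_
    rw [← zpow_one a, ← Nat.cast_one, hb, zpow_add, zpow_mul, zpow_mul, zpow_natCast, zpow_natCast]
    exact H.mul_mem (H.zpow_mem hap _) (H.zpow_mem hn' _)
  let r : Fin p → ↥M := fun i => ⟨a ^ (i : ℕ), M.pow_mem ha _⟩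
  have hr : Function.Bijective fun i => (r i : ↥M ⧸ H.subgroupOf M) := by
    constructor
    · intro i j h
      have h1 : (a ^ (i : ℕ))⁻¹ * a ^ (j : ℕ) ∈ H := (mem_subgroupOf.1 (QuotientGroup.eq.1 h) :)
      refine Fin.ext ?_
      rcases le_total (i : ℕ) (j : ℕ) with hle | hle
      · have h2 : a ^ ((j : ℕ) - i) ∈ H := by
          rwa [pow_sub a hle, ← (Commute.pow_pow_self a i j).inv_left.eq]
        have h3 := Nat.eq_zero_of_dvd_of_lt (hnat _ h2) (by omega)
        omega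
      · have h2 : a ^ ((i : ℕ) - j) ∈ H := by
          rw [pow_sub a hle]
          have h4 := H.inv_mem h1
          rw [mul_inv_rev, inv_inv] at h4
          rwa [(Commute.pow_pow_self a i j).inv_right.eq]
        have h3 := Nat.eq_zero_of_dvd_of_lt (hnat _ h2) (by omega)
        omega
    · intro x
      obtain ⟨m, rfl⟩ := QuotientGroup.mk_surjective x
      have hm := hgen m.2
      rw [← SetLike.mem_coe, coe_mul_of_right_le_normalizer_left H (zpowers a) (zpowers_le.2 hn)] at hm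
      obtain ⟨h, hh, _, ⟨k, rfl⟩, hhk : h * a ^ k = (m : G)⟩ := hm
      have hp0 : (0 : ℤ) < p := by exact_mod_cast hp.out.pos
      set i : ℕ := (k % p).toNat with hi'
      have hik : ((i : ℕ) : ℤ) = k % p := Int.toNat_of_nonneg (Int.emod_nonneg _ hp0.ne')
      have hilt : i < p := by
        have := Int.emod_lt_of_pos k hp0
        omega
      refine ⟨⟨i, hilt⟩, QuotientGroup.eq.2 ?_⟩
      show (a ^ i)⁻¹ * (m : G) ∈ H
      have hk : a ^ k = a ^ i * (a ^ p) ^ (k / p) := by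
        rw [← zpow_natCast a i, ← zpow_natCast a p, ← zpow_mul, ← zpow_add, hik]
        congr 1
        rw [Int.emod_def]; ring
      rw [← hhk, hk, show (a ^ i)⁻¹ * (h * (a ^ i * (a ^ p) ^ (k / p))) =
        ((a ^ i)⁻¹ * h * a ^ i) * (a ^ p) ^ (k / p) by group]
      refine H.mul_mem ?_ (H.zpow_mem hap _)
      have h5 := (mem_normalizer_iff.1 (Subgroup.inv_mem _ (Subgroup.pow_mem _ hn i)) h).1 hh
      rwa [inv_inv] at h5
  rw [trNorm_eq_prod φ hw r hr, Fin.prod_univ_eq_prod_range (fun i => φ (a ^ i) w) p]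
  simp only [hi]
  rw [Finset.prod_mul_distrib, Finset.prod_const, Finset.card_range, Finset.prod_pow_eq_pow_sum,
    Finset.sum_range_id]

/-- Splitting a norm to the whole group into orbits of `R`. -/
theorem trNorm_top_split (φ : G →* MulAut A) {R H : Subgroup G} {w : A} (hw : IsFix φ H w) :
    ∃ (ι : Type u) (_ : Fintype ι) (g : ι → G),
      trNorm φ H ⊤ w = ∏ i, trNorm φ (R ⊓ stabilizer G ((g i : G) : G ⧸ H)) R (φ (g i) w) ∧
      ∀ q : G, ∃! i, ∃ r ∈ R, ((r * g i : G) : G ⧸ H) = (q : G ⧸ H) := by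
  classical
  letI : Fintype (G ⧸ H) := Fintype.ofFinite _
  letI : Fintype (Quotient (orbitRel ↥R (G ⧸ H))) := Fintype.ofFinite _
  refine ⟨Quotient (orbitRel ↥R (G ⧸ H)), inferInstance, fun i => i.out.out, ?_, ?_⟩
  · have h0 : trNorm φ H ⊤ w = ∏ q : G ⧸ H, φ q.out w := by
      refine trNorm_eq_prod φ hw (fun q : G ⧸ H => (⟨q.out, mem_top _⟩ : ↥(⊤ : Subgroup G))) ⟨?_, ?_⟩
      · intro q q' h
        rw [← QuotientGroup.out_eq' q, ← QuotientGroup.out_eq' q']
        exact QuotientGroup.eq.2 (mem_subgroupOf.1 (QuotientGroup.eq.1 h) :)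
      · intro x
        obtain ⟨m, rfl⟩ := QuotientGroup.mk_surjective x
        refine ⟨((m : G) : G ⧸ H), QuotientGroup.eq.2 ?_⟩
        show ((((m : G) : G ⧸ H)).out)⁻¹ * (m : G) ∈ H
        exact QuotientGroup.eq.1 (QuotientGroup.out_eq' _)
    rw [h0, ← Finset.prod_fiberwise Finset.univ
      (Quotient.mk'' : G ⧸ H → Quotient (orbitRel ↥R (G ⧸ H)))]
    refine Finset.prod_congr rfl fun ω _ => ?_
    set g := ω.out.out
    have hg : (g : G ⧸ H) = ω.out := QuotientGroup.out_eq' _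
    set Q := R ⊓ stabilizer G ((g : G) : G ⧸ H)
    letI : Fintype (↥R ⧸ Q.subgroupOf R) := Fintype.ofFinite _
    rw [trNorm]
    refine (Finset.prod_nbij (fun c => (c.out : G) • ω.out) ?_ ?_ ?_ ?_).symm
    · intro c _
      refine Finset.mem_filter.2 ⟨Finset.mem_univ _, ?_⟩
      rw [← Quotient.out_eq' ω]
      exact Quotient.sound' ⟨c.out, by rw [Quotient.out_eq']; rfl⟩
    · intro c _ c' _ (he : (c.out : G) • ω.out = (c'.out : G) • ω.out)
      rw [← QuotientGroup.out_eq' c, ← QuotientGroup.out_eq' c']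
      refine QuotientGroup.eq.2 (mem_subgroupOf.2 ⟨(c.out⁻¹ * c'.out).2, mem_stabilizer_iff.2 ?_⟩)
      show ((c.out : G)⁻¹ * (c'.out : G)) • (g : G ⧸ H) = _
      rw [hg, mul_smul, ← he, inv_smul_smul]
    · intro q hq
      have hq' : Quotient.mk'' q = ω := (Finset.mem_filter.1 hq).2
      rw [← Quotient.out_eq' ω] at hq'
      obtain ⟨e, he⟩ := Quotient.exact' hq'
      refine ⟨(e : ↥R ⧸ Q.subgroupOf R), Finset.mem_univ _, ?_⟩
      set c : ↥R ⧸ Q.subgroupOf R := (e : ↥R ⧸ Q.subgroupOf R)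
      have h1 : ((c.out⁻¹ * e : ↥R) : G) • ω.out = ω.out := by
        have h2 : ((c.out⁻¹ * e : ↥R) : G) ∈ Q :=
          mem_subgroupOf.1 (QuotientGroup.eq.1 (QuotientGroup.out_eq' c))
        rw [← hg]; exact h2.2
      rw [Subgroup.coe_mul, Subgroup.coe_inv, mul_smul, inv_smul_eq_iff] at h1
      show (c.out : G) • ω.out = q
      rw [← h1]; exact he
    · intro c _
      show φ (c.out : G) (φ g w) = φ (((c.out : G) • ω.out).out) w
      rw [← MulAut.mul_apply, ← map_mul]
      have h1 : ((((c.out : G) • ω.out).out : G) : G ⧸ H) = (((c.out : G) * g : G) : G ⧸ H) := by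
        rw [QuotientGroup.out_eq', ← hg]; rfl
      have h2 := hw _ (QuotientGroup.eq.1 h1)
      rw [map_mul, MulAut.mul_apply] at h2
      conv_rhs => rw [← h2, ← MulAut.mul_apply, ← map_mul, mul_inv_cancel, map_one, MulAut.one_apply]
  · intro q
    have key : ∀ (i : Quotient (orbitRel ↥R (G ⧸ H))) (r : G),
        ((r * i.out.out : G) : G ⧸ H) = r • i.out := fun i r => by
      conv_rhs => rw [← QuotientGroup.out_eq' i.out]
      rfl
    refine ⟨Quotient.mk'' (q : G ⧸ H), ?_, ?_⟩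
    · obtain ⟨e, he⟩ := Quotient.exact'
        (Quotient.out_eq' (Quotient.mk'' (q : G ⧸ H) : Quotient (orbitRel ↥R (G ⧸ H)))).symm
      exact ⟨e, e.2, (key _ _).trans he⟩
    · rintro i ⟨r, hr, he⟩
      have h : (q : G ⧸ H) ∈ orbit ↥R i.out := ⟨⟨r, hr⟩, (key i r).symm.trans he⟩
      rw [← Quotient.out_eq' i]
      exact (Quotient.sound' (orbitRel_apply.2 h)).symm

end Cfsg.Agent.LocalEven62
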